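import Cfsg.Agent.J4M24.E3.Data

/-! Generated: checks of the rows. -/

set_option autoImplicit false
set_option maxRecDepth 100000

namespace CfsgLib.J4M24.E3

open CfsgLib.CosetEnum

theorem rows4096 : allFrom (checkRow epF (fun x => x ^^^ 1) 18704 6 nodeF TF tfF 5760) 4096 256 = true := by
  decide +kernel

theorem rows4352 : allFrom (checkRow epF (fun x => x ^^^ 1) 18704 6 nodeF TF tfF 5760) 4352 256 = true := by
  decide +kernel

theorem rows4608 : allFrom (checkRow epF (fun x => x ^^^ 1) 18704 6 nodeF TF tfF 5760) 4608 256 = true := by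
  decide +kernel

theorem rows4864 : allFrom (checkRow epF (fun x => x ^^^ 1) 18704 6 nodeF TF tfF 5760) 4864 256 = true := by
  decide +kernel

theorem rows5120 : allFrom (checkRow epF (fun x => x ^^^ 1) 18704 6 nodeF TF tfF 5760) 5120 256 = true := by
  decide +kernel

theorem rows5376 : allFrom (checkRow epF (fun x => x ^^^ 1) 18704 6 nodeF TF tfF 5760) 5376 256 = true := by
  decide +kernel

theorem rows5632 : allFrom (checkRow epF (fun x => x ^^^ 1) 18704 6 nodeF TF tfF 5760) 5632 128 = true := by
  decide +kernel

end CfsgLib.J4M24.E3
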