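import Cfsg.Agent.J4M24.E3.Facts0
import Cfsg.Agent.J4M24.E3.Facts1
import Cfsg.Agent.J4M24.E3.Facts2
import Cfsg.Agent.J4M24.E3.Rows0
import Cfsg.Agent.J4M24.E3.Rows1

/-! Generated: the checked certificate. -/

set_option autoImplicit false
set_option maxRecDepth 100000

namespace CfsgLib.J4M24.E3

open CfsgLib.CosetEnum

theorem facts : FactsChecked cert.ep cert.iv cert.words cert.nr 18704 :=
  (factsUpTo18704 (factsUpTo16384 (factsUpTo8192 FactsChecked.zero)))

theorem rows : ∀ i < cert.n, checkRow cert.ep cert.iv 18704 cert.L cert.node cert.T cert.tf cert.n i = true :=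
  RangeChecked.all (RangeChecked.app 128 5760 (RangeChecked.app 256 5632 (RangeChecked.app 256 5376 (RangeChecked.app 256 5120 (RangeChecked.app 256 4864 (RangeChecked.app 256 4608 (RangeChecked.app 256 4352 (RangeChecked.app 256 4096 (RangeChecked.app 256 3840 (RangeChecked.app 256 3584 (RangeChecked.app 256 3328 (RangeChecked.app 256 3072 (RangeChecked.app 256 2816 (RangeChecked.app 256 2560 (RangeChecked.app 256 2304 (RangeChecked.app 256 2048 (RangeChecked.app 256 1792 (RangeChecked.app 256 1536 (RangeChecked.app 256 1280 (RangeChecked.app 256 1024 (RangeChecked.app 256 768 (RangeChecked.app 256 512 (RangeChecked.app 256 256 RangeChecked.zero rows0 rfl) rows256 rfl) rows512 rfl) rows768 rfl) rows1024 rfl) rows1280 rfl) rows1536 rfl) rows1792 rfl) rows2048 rfl) rows2304 rfl) rows2560 rfl) rows2816 rfl) rows3072 rfl) rows3328 rfl) rows3584 rfl) rows3840 rfl) rows4096 rfl) rows4352 rfl) rows4608 rfl) rows4864 rfl) rows5120 rfl) rows5376 rfl) rows5632 rfl)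

theorem node_zero : cert.node 0 = 0 := by decide +kernel

theorem n_pos : 0 < cert.n := by decide +kernel

end CfsgLib.J4M24.E3
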